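import Cfsg.Agent.Lib.Classical.TensorMax.Fix

/-!
# The algebra of factors of root elements is everything
-/

set_option autoImplicit false
set_option linter.unusedSectionVars false

namespace CfsgLib.Classical.TensorMax

open Matrix Module
open CfsgLib.Classical.FieldExtMax (Has)

variable {F : Type*} [Field F]

section algebra

variable {n : ℕ} (S : Set (Matrix (Fin n) (Fin n) F))

/-- Conjugation of a rank one matrix by a transvection. -/
theorem conj_vecMulVec (η d u γ : Fin n → F) :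
    (1 + vecMulVec η d) * vecMulVec u γ * (1 + vecMulVec (-η) d) =
      vecMulVec (u + (d ⬝ᵥ u) • η) (γ - (γ ⬝ᵥ η) • d) := by
  rw [Matrix.add_mul, Matrix.one_mul, vecMulVec_mul_vecMulVec, vecMulVec_smul', ← add_vecMulVec, vecMulVec_mul,
    Matrix.vecMul_add, Matrix.vecMul_one, vecMul_vecMulVec, dotProduct_neg, neg_smul, ← sub_eq_add_neg, op_smul_eq_smul]

/-- A conjugation-invariant algebra of matrices that contains a non-scalar contains a nilpotent of rank one. -/
theorem exists_rank_one (hn : 2 ≤ n) (hex : 3 ≤ n ∨ ∃ t : F, t ≠ 0 ∧ t ≠ 1)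
    (hadd : ∀ X ∈ S, ∀ Y ∈ S, X + Y ∈ S) (hmul : ∀ X ∈ S, ∀ Y ∈ S, X * Y ∈ S)
    (hsmul : ∀ (c : F), ∀ X ∈ S, c • X ∈ S)
    (hconj : ∀ η d, d ⬝ᵥ η = 0 → ∀ X ∈ S, (1 + vecMulVec η d) * X * (1 + vecMulVec (-η) d) ∈ S)
    {N : Matrix (Fin n) (Fin n) F} (hN : N ∈ S) {v : Fin n → F} (hv : N *ᵥ v ∉ F ∙ v) :
    ∃ u γ, u ≠ 0 ∧ γ ≠ 0 ∧ γ ⬝ᵥ u = 0 ∧ vecMulVec u γ ∈ S := by
  obtain ⟨α, hαv, hαw⟩ := exists_dot hv
  have hv0 : v ≠ 0 := fun h => hv (by simp [h])
  have hα0 : α ≠ 0 := fun h => by simp [h] at hαw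
  have hsub : ∀ X ∈ S, ∀ Y ∈ S, X - Y ∈ S := fun X hX Y hY => by
    rw [sub_eq_add_neg, ← neg_one_smul F Y]; exact hadd X hX _ (hsmul _ Y hY)
  set w := N *ᵥ v with hw
  have hZ : ∀ t : F, t • vecMulVec v (α ᵥ* N) - t • vecMulVec w α - (t * t) • vecMulVec v α ∈ S := fun t => by
    have h := hsub _ (hconj (t • v) α (by rw [dotProduct_smul, hαv, smul_zero]) N hN) N hN
    have e : (1 + vecMulVec (t • v) α) * N * (1 + vecMulVec (-(t • v)) α) - N =
        t • vecMulVec v (α ᵥ* N) - t • vecMulVec w α - (t * t) • vecMulVec v α := by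
      set E := vecMulVec v α with hE
      have h1 : E * N = vecMulVec v (α ᵥ* N) := vecMulVec_mul _ _ _
      have h2 : N * E = vecMulVec w α := by rw [hE, mul_vecMulVec]
      have h3 : E * N * E = E := by
        rw [h1, hE, vecMulVec_mul_vecMulVec, ← dotProduct_mulVec, ← hw, hαw, one_smul]
      rw [smul_vecMulVec, neg_vecMulVec, smul_vecMulVec, ← hE]
      simp only [Matrix.add_mul, Matrix.mul_add, Matrix.one_mul, Matrix.mul_one, Matrix.mul_neg, Matrix.neg_mul,
        Matrix.smul_mul, Matrix.mul_smul, smul_smul, h3]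
      rw [h1, h2, smul_add, smul_smul]
      abel
    rwa [e] at h
  rcases hex with h3 | ⟨t, ht0, ht1⟩
  · set a := α ᵥ* N - α with ha
    set Z := vecMulVec v a - vecMulVec w α with hZdef
    have hZS : Z ∈ S := by
      have h := hZ 1
      simp only [one_smul, mul_one] at h
      convert h using 1
      rw [hZdef, ha, vecMulVec_sub]
      abel
    have hZv : Z *ᵥ v = v := by
      rw [hZdef, sub_mulVec, vecMulVec_mulVec, vecMulVec_mulVec, op_smul_eq_smul, op_smul_eq_smul, hαv,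
        zero_smul, sub_zero, ha, sub_dotProduct, ← dotProduct_mulVec, ← hw, hαw, hαv, sub_zero, one_smul]
    have hZw : Z *ᵥ w = (a ⬝ᵥ w) • v - w := by
      rw [hZdef, sub_mulVec, vecMulVec_mulVec, vecMulVec_mulVec, op_smul_eq_smul, op_smul_eq_smul, hαw, one_smul]
    set P := Z * Z with hP
    have hPv : P *ᵥ v = v := by rw [hP, ← mulVec_mulVec, hZv, hZv]
    have hPw : P *ᵥ w = w := by
      rw [hP, ← mulVec_mulVec, hZw, mulVec_sub, mulVec_smul, hZv, hZw]; abel
    have hPP : P * P = P := by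
      have h : P * Z = Z := by rw [hZdef, Matrix.mul_sub, mul_vecMulVec, mul_vecMulVec, hPv, hPw]
      calc P * P = P * Z * Z := by rw [hP]; simp only [Matrix.mul_assoc]
        _ = P := by rw [h, hP]
    obtain ⟨x, hx0, hax, hαx⟩ := exists_perp_two h3 a α
    have hPx : P *ᵥ x = 0 := by
      have hZx : Z *ᵥ x = 0 := by
        rw [hZdef, sub_mulVec, vecMulVec_mulVec, vecMulVec_mulVec, op_smul_eq_smul, op_smul_eq_smul, hax, hαx,
          zero_smul, zero_smul, sub_zero]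
      rw [hP, ← mulVec_mulVec, hZx, mulVec_zero]
    have hPS : P ∈ S := hmul _ hZS _ hZS
    set γ := α ᵥ* P with hγ
    have hγx : γ ⬝ᵥ x = 0 := by rw [hγ, ← dotProduct_mulVec, hPx, dotProduct_zero]
    have hγ0 : γ ≠ 0 := fun h0 => one_ne_zero (α := F) (by
      rw [← hαw, ← hPw, dotProduct_mulVec, ← hγ, h0, zero_dotProduct])
    refine ⟨x, γ, hx0, hγ0, hγx, ?_⟩
    have h := hsub _ (hconj x γ hγx P hPS) P hPS
    have e : (1 + vecMulVec x γ) * P * (1 + vecMulVec (-x) γ) - P = vecMulVec x γ := by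
      have hγP : γ ᵥ* P = γ := by rw [hγ, vecMul_vecMul, hPP]
      set E := vecMulVec x γ with hE
      have h1 : E * P = E := by rw [hE, vecMulVec_mul, hγP]
      have h2 : P * E = 0 := by rw [hE, mul_vecMulVec, hPx, zero_vecMulVec]
      have h4 : E * E = 0 := by rw [hE, vecMulVec_mul_vecMulVec, hγx, zero_smul, vecMulVec_zero']
      rw [neg_vecMulVec, ← hE]
      simp only [Matrix.add_mul, Matrix.mul_add, Matrix.one_mul, Matrix.mul_one, Matrix.mul_neg, h1, h2, h4,
        neg_zero, add_zero]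
      abel
    rwa [e] at h
  · refine ⟨v, α, hv0, hα0, hαv, ?_⟩
    have hne : t - t * t ≠ 0 := by
      rw [show t - t * t = t * (1 - t) by ring]
      exact mul_ne_zero ht0 (sub_ne_zero.2 (Ne.symm ht1))
    have h := hsmul (t - t * t)⁻¹ _ (hsub _ (hZ t) _ (hsmul t _ (hZ 1)))
    have e : (t - t * t)⁻¹ • (t • vecMulVec v (α ᵥ* N) - t • vecMulVec w α - (t * t) • vecMulVec v α -
        t • ((1 : F) • vecMulVec v (α ᵥ* N) - (1 : F) • vecMulVec w α - ((1 : F) * 1) • vecMulVec v α)) =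
        vecMulVec v α := by
      rw [inv_smul_eq_iff₀ hne]
      module
    rwa [e] at h

/-- A conjugation-invariant algebra of matrices with a non-scalar is everything. -/
theorem mem_of_invariant (hn : 2 ≤ n) (hex : 3 ≤ n ∨ ∃ t : F, t ≠ 0 ∧ t ≠ 1)
    (hadd : ∀ X ∈ S, ∀ Y ∈ S, X + Y ∈ S) (hmul : ∀ X ∈ S, ∀ Y ∈ S, X * Y ∈ S)
    (hsmul : ∀ (c : F), ∀ X ∈ S, c • X ∈ S)
    (hconj : ∀ η d, d ⬝ᵥ η = 0 → ∀ X ∈ S, (1 + vecMulVec η d) * X * (1 + vecMulVec (-η) d) ∈ S)
    {N : Matrix (Fin n) (Fin n) F} (hN : N ∈ S) {v₀ : Fin n → F} (hv₀ : N *ᵥ v₀ ∉ F ∙ v₀)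
    (X : Matrix (Fin n) (Fin n) F) : X ∈ S := by
  obtain ⟨v, α, hv, hα, hαv, hvα⟩ := exists_rank_one S hn hex hadd hmul hsmul hconj hN hv₀
  have hsub : ∀ X ∈ S, ∀ Y ∈ S, X - Y ∈ S := fun X hX Y hY => by
    rw [sub_eq_add_neg, ← neg_one_smul F Y]; exact hadd X hX _ (hsmul _ Y hY)
  -- a member with non-zero trace
  obtain ⟨η, hη⟩ := exists_dot_one hα
  rw [dotProduct_comm] at hη
  have hvη : v ∉ F ∙ η := fun h => by
    obtain ⟨k, rfl⟩ := Submodule.mem_span_singleton.1 h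
    rw [dotProduct_smul, hη, smul_eq_mul, mul_one] at hαv
    exact hv (by rw [hαv, zero_smul])
  obtain ⟨d, hdη, hdv⟩ := exists_dot hvη
  have hα1 : vecMulVec v (α - d) ∈ S := by
    have h := hconj η d hdη _ hvα
    rw [conj_vecMulVec, hdv, hη, one_smul, one_smul] at h
    have h2 := hmul _ hvα _ h
    rwa [vecMulVec_mul_vecMulVec, dotProduct_add, hαv, hη, zero_add, one_smul] at h2
  have h0 : (0 : Matrix (Fin n) (Fin n) F) ∈ S := by simpa using hsub _ hvα _ hvα
  -- every row vector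
  have hperp : ∀ γ, γ ⬝ᵥ v = 0 → vecMulVec v γ ∈ S := by
    intro γ hγ
    by_cases hmem : α ∈ F ∙ γ
    · obtain ⟨k, hk⟩ := Submodule.mem_span_singleton.1 hmem
      have hk0 : k ≠ 0 := by rintro rfl; exact hα (by rw [← hk, zero_smul])
      have : γ = k⁻¹ • α := by rw [← hk, inv_smul_smul₀ hk0]
      rw [this, vecMulVec_smul]
      exact hsmul _ _ hvα
    · obtain ⟨η', hγη, hαη⟩ := exists_dot hmem
      rw [dotProduct_comm] at hγη hαη
      have h := hconj η' γ hγη _ hvα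
      rw [conj_vecMulVec, hγ, zero_smul, add_zero, hαη, one_smul, vecMulVec_sub] at h
      simpa using hsub _ hvα _ h
  have hrow : ∀ γ, vecMulVec v γ ∈ S := by
    intro γ
    have h := hsub _ (hperp (γ + (γ ⬝ᵥ v) • (α - d)) (by
      rw [add_dotProduct, smul_dotProduct, sub_dotProduct, hαv, hdv, smul_eq_mul]; ring))
      _ (hsmul (γ ⬝ᵥ v) _ hα1)
    rwa [vecMulVec_add, vecMulVec_smul, add_sub_cancel_right] at h
  -- every rank one matrix
  have hall : ∀ u γ, vecMulVec u γ ∈ S := by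
    intro u γ
    by_cases hu : u ∈ F ∙ v
    · obtain ⟨k, rfl⟩ := Submodule.mem_span_singleton.1 hu
      rw [smul_vecMulVec]
      exact hsmul _ _ (hrow γ)
    · have hv' : v ∉ F ∙ (u - v) := fun h => by
        obtain ⟨k, hk⟩ := Submodule.mem_span_singleton.1 h
        rcases eq_or_ne k 0 with rfl | hk0
        · exact hv (by rw [← hk, zero_smul])
        · refine hu (Submodule.mem_span_singleton.2 ⟨1 + k⁻¹, ?_⟩)
          have : k⁻¹ • v = u - v := by
            conv_lhs => rw [← hk]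
            rw [inv_smul_smul₀ hk0]
          rw [add_smul, one_smul, this]
          abel
      obtain ⟨e, heu, hev⟩ := exists_dot hv'
      have h := hconj (u - v) e heu _ (hrow (γ + (γ ⬝ᵥ (u - v)) • e))
      rw [conj_vecMulVec, hev, one_smul, add_sub_cancel, add_dotProduct, smul_dotProduct, heu, smul_zero,
        add_zero, add_sub_cancel_right] at h
      exact h
  have hX : X = ∑ j, vecMulVec (fun i => X i j) (Pi.single j 1) := Matrix.ext fun i l => by
    simp [Matrix.sum_apply, vecMulVec_apply, Pi.single_apply]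
  rw [hX]
  exact Finset.sum_induction _ (· ∈ S) (fun a b ha hb => hadd a ha b hb) h0 fun j _ => hall _ _

end algebra

variable {n₁ n₂ : ℕ}
  {M : Subgroup (Matrix (Fin n₁) (Fin n₂) F ≃ₗ[F] Matrix (Fin n₁) (Fin n₂) F)}

theorem root_add_left (N : Matrix (Fin n₁) (Fin n₁) F) (β β' b : Fin n₂ → F) :
    root N (β + β') b = root N β b + root N β' b := LinearMap.ext fun X => by
  simp [mulVec_add, add_vecMulVec]

theorem root_add_right (N : Matrix (Fin n₁) (Fin n₁) F) (β b b' : Fin n₂ → F) :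
    root N β (b + b') = root N β b + root N β b' := LinearMap.ext fun X => by
  simp [vecMulVec_add]

/-- A root factor for one pair is a root factor for every incident pair. -/
theorem has_root_spread (hM : ContainsSL M) (h3 : 3 ≤ n₂) {N : Matrix (Fin n₁) (Fin n₁) F} {β₀ b₀ : Fin n₂ → F}
    (hβ : β₀ ≠ 0) (hb : b₀ ≠ 0) (h0 : b₀ ⬝ᵥ β₀ = 0) (hN : Has M (root N β₀ b₀)) :
    ∀ β b, b ⬝ᵥ β = 0 → Has M (root N β b) := by
  have nn : ∀ {β b : Fin n₂ → F}, b ⬝ᵥ β = 0 → ∀ X, root N β b (root N β b X) = 0 := fun h X => by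
    rw [root_root, h, zero_smul]
  have hconj : ∀ {β b η d : Fin n₂ → F}, d ⬝ᵥ η = 0 → Has M (root N β b) →
      Has M (root N (β - (d ⬝ᵥ β) • η) (b + (b ⬝ᵥ η) • d)) := by
    intro β b η d h hh
    obtain ⟨e, he, -, hex, hexs⟩ := hM.transvection h
    refine (hh.conj he).congr fun X => ?_
    show e (root N β b (e.symm X)) = _
    rw [hexs, root_apply, root_apply, hex, vecMulVec_mul, Matrix.vecMul_add, Matrix.vecMul_one,
      vecMul_vecMulVec]
    congr 2
    rw [← mulVec_mulVec, add_mulVec, one_mulVec, vecMulVec_mulVec, op_smul_eq_smul, smul_neg, ← sub_eq_add_neg]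
  -- all columns for one row
  have key1 : ∀ {β b : Fin n₂ → F}, β ≠ 0 → b ⬝ᵥ β = 0 → Has M (root N β b) →
      ∀ η, b ⬝ᵥ η = 0 → Has M (root N η b) := by
    intro β b hβ hbβ hh
    have hstep : ∀ {β : Fin n₂ → F}, b ⬝ᵥ β = 0 → Has M (root N β b) → ∀ η, b ⬝ᵥ η = 0 → β ∉ F ∙ η →
        Has M (root N η b) := by
      intro β hbβ hh η hη hmem
      obtain ⟨d, hdη, hdβ⟩ := exists_dot hmem
      have h := hconj hdη hh
      rw [hdβ, one_smul, hη, zero_smul, add_zero] at h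
      have h2 := hh.add (h.neg (nn (by rw [dotProduct_sub, hbβ, hη, sub_zero]))) fun X => by
        rw [LinearMap.neg_apply, map_neg, root_root, hbβ, zero_smul, neg_zero]
      refine h2.congr fun X => ?_
      simp [mulVec_sub, sub_vecMulVec]
    intro η hη
    by_cases hmem : β ∈ F ∙ η
    · obtain ⟨k, hk⟩ := Submodule.mem_span_singleton.1 hmem
      obtain ⟨η', hη', hne⟩ := exists_perp_notMem h3 b η
      refine hstep hη' (hstep hbβ hh η' hη' fun hc => hne ?_) η hη fun hc => hne hc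
      obtain ⟨l, hl⟩ := Submodule.mem_span_singleton.1 hc
      have hl0 : l ≠ 0 := by rintro rfl; exact hβ (by rw [← hl, zero_smul])
      exact Submodule.mem_span_singleton.2 ⟨l⁻¹ * k, by rw [mul_smul, hk, ← hl, inv_smul_smul₀ hl0]⟩
    · exact hstep hbβ hh η hη hmem
  -- all rows for one column
  have key2 : ∀ {β b : Fin n₂ → F}, b ≠ 0 → b ⬝ᵥ β = 0 → Has M (root N β b) →
      ∀ d, d ⬝ᵥ β = 0 → Has M (root N β d) := by
    intro β b hb hbβ hh
    have hstep : ∀ {b : Fin n₂ → F}, b ⬝ᵥ β = 0 → Has M (root N β b) → ∀ d, d ⬝ᵥ β = 0 → b ∉ F ∙ d →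
        Has M (root N β d) := by
      intro b hbβ hh d hd hmem
      obtain ⟨η, hdη, hbη⟩ := exists_dot hmem
      rw [dotProduct_comm] at hdη hbη
      have h := hconj hdη hh
      rw [hd, zero_smul, sub_zero, hbη, one_smul] at h
      have h2 := h.add (hh.neg (nn hbβ)) fun X => by
        rw [LinearMap.neg_apply, map_neg, root_root, hbβ, zero_smul, neg_zero]
      refine h2.congr fun X => ?_
      simp [vecMulVec_add]
    intro d hd
    by_cases hmem : b ∈ F ∙ d
    · obtain ⟨k, hk⟩ := Submodule.mem_span_singleton.1 hmem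
      obtain ⟨d', hd', hne⟩ := exists_perp_notMem h3 β d
      rw [dotProduct_comm] at hd'
      refine hstep hd' (hstep hbβ hh d' hd' fun hc => hne ?_) d hd fun hc => hne hc
      obtain ⟨l, hl⟩ := Submodule.mem_span_singleton.1 hc
      have hl0 : l ≠ 0 := by rintro rfl; exact hb (by rw [← hl, zero_smul])
      exact Submodule.mem_span_singleton.2 ⟨l⁻¹ * k, by rw [mul_smul, hk, ← hl, inv_smul_smul₀ hl0]⟩
    · exact hstep hbβ hh d hd hmem
  intro β b hbβ
  rcases eq_or_ne b 0 with rfl | hb0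
  · rw [root_zero_right]; exact Has.zero
  obtain ⟨β₁, hβ₁, hb₀₁, hb₁⟩ := exists_perp_two h3 b₀ b
  exact key1 hβ₁ hb₁ (key2 hb hb₀₁ (key1 hβ h0 hN β₁ hb₀₁) b hb₁) β hbβ

/-- Every matrix is a root factor. -/
theorem has_root_all (hM : ContainsSL M) (h1 : 2 ≤ n₁) (h12 : n₁ < n₂)
    (hex : 3 ≤ n₁ ∨ ∃ t : F, t ≠ 0 ∧ t ≠ 1)
    {g₀ : Matrix (Fin n₁) (Fin n₂) F ≃ₗ[F] Matrix (Fin n₁) (Fin n₂) F} (hg₀ : g₀ ∈ M)
    (hg₀T : ¬ IsTensor g₀) (N : Matrix (Fin n₁) (Fin n₁) F) {β b : Fin n₂ → F} (hβb : b ⬝ᵥ β = 0) :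
    Has M (root N β b) := by
  have h3 : 3 ≤ n₂ := by omega
  obtain ⟨N₀, β₀, b₀, hβ₀, hb₀, hbβ₀, ⟨v, hv⟩, hN₀⟩ := exists_root hM (by omega) h12 h3 hg₀ hg₀T
  set S := {N : Matrix (Fin n₁) (Fin n₁) F | ∀ β b, b ⬝ᵥ β = 0 → Has M (root N β b)} with hS
  have hadd : ∀ X ∈ S, ∀ Y ∈ S, X + Y ∈ S := fun X hX Y hY β b h =>
    ((hX β b h).add (hY β b h) fun Z => by rw [root_root, h, zero_smul]).congr fun Z => by
      simp [Matrix.add_mul, Matrix.mul_assoc, add_mulVec, add_vecMulVec]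
  have hsmul1 : ∀ c : F, c • (1 : Matrix (Fin n₁) (Fin n₁) F) ∈ S := fun c β b h =>
    (has_root_one hM (β := c • β) (b := b) (by rw [dotProduct_smul, h, smul_zero])).congr fun Z => by
      simp [mulVec_smul, smul_vecMulVec, smul_mulVec]
  have hmul : ∀ X ∈ S, ∀ Y ∈ S, X * Y ∈ S := fun X hX Y hY β' b hbβ' => by
    rcases eq_or_ne β' 0 with rfl | hβ'
    · rw [root_zero_left]; exact Has.zero
    obtain ⟨β, hbβ, hne⟩ := exists_perp_notMem h3 b β'
    obtain ⟨b', hb'β', hb'β⟩ := exists_dot hne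
    refine ((hX β b hbβ).comm (hY β' b' hb'β') (fun Z => by rw [root_root, hbβ, zero_smul])
      (fun Z => by rw [root_root, hb'β', zero_smul]) fun Z => by rw [root_root, hbβ', zero_smul]).congr fun Z => ?_
    rw [LinearMap.comp_apply, root_root, hb'β, one_smul]
  have hsmul : ∀ (c : F), ∀ X ∈ S, c • X ∈ S := fun c X hX => by
    simpa using hmul _ (hsmul1 c) X hX
  have hconj : ∀ η d, d ⬝ᵥ η = 0 → ∀ X ∈ S, (1 + vecMulVec η d) * X * (1 + vecMulVec (-η) d) ∈ S := by
    intro η d h X hX β b hb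
    obtain ⟨e, he, hex'⟩ := hM.left (1 + vecMulVec η d) (by rw [det_one_add_vecMulVec, h, add_zero])
    have hinv : (1 + vecMulVec η d) * (1 + vecMulVec (-η) d) = (1 : Matrix (Fin n₁) (Fin n₁) F) := by
      rw [Matrix.add_mul, Matrix.one_mul, Matrix.mul_add, Matrix.mul_one, vecMulVec_mul_vecMulVec,
        dotProduct_neg, h, neg_zero, zero_smul, vecMulVec_zero', neg_vecMulVec]
      abel
    refine ((hX β b hb).conj he).congr fun Z => ?_
    have hs : e.symm Z = (1 + vecMulVec (-η) d) * Z := e.symm_apply_eq.2 (by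
      rw [hex', ← Matrix.mul_assoc, hinv, Matrix.one_mul])
    show e (root X β b (e.symm Z)) = _
    rw [hs, hex']
    show (1 + vecMulVec η d) * (X * ((1 + vecMulVec (-η) d) * Z) * vecMulVec β b) =
      (1 + vecMulVec η d) * X * (1 + vecMulVec (-η) d) * Z * vecMulVec β b
    simp only [Matrix.mul_assoc]
  exact mem_of_invariant S h1 hex hadd hmul hsmul hconj (has_root_spread hM h3 hβ₀ hb₀ hbβ₀ hN₀) hv N β b hβb

end CfsgLib.Classical.TensorMax
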