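import Cfsg.Prelude.Def_GeometricClasses
import Cfsg.Agent.Lib.Classical.GSpMax
import Cfsg.Agent.Lib.Classical.TensorMax.Scalars

/-!
# The stabiliser of a tensor decomposition is maximal
-/

set_option autoImplicit false
set_option linter.unusedSectionVars false
set_option backward.isDefEq.respectTransparency false

namespace CfsgLib.Classical.TensorMax

open Matrix Module CfsgLib.Classical
open CfsgLib.Classical.FieldExtMax (Has)
open scoped Kronecker MatrixGroups

variable {F : Type*} [Field F] {n n₁ n₂ : ℕ}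

/-- A matrix as a column vector in the coordinates `e`, moved by `P`. -/
def coords (e : Fin n ≃ Fin n₁ × Fin n₂) (P : GL (Fin n) F) :
    Matrix (Fin n₁) (Fin n₂) F ≃ₗ[F] (Fin n → F) where
  toFun X := (P : Matrix (Fin n) (Fin n) F) *ᵥ fun i => X (e i).1 (e i).2
  invFun x := Matrix.of fun r s => (((P⁻¹ : GL (Fin n) F) : Matrix (Fin n) (Fin n) F) *ᵥ x) (e.symm (r, s))
  map_add' X Y := by rw [← mulVec_add]; rfl
  map_smul' c X := by rw [RingHom.id_apply, ← mulVec_smul]; rfl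
  left_inv X := by
    ext r s
    simp only [Matrix.of_apply, mulVec_mulVec, ← Units.val_mul, inv_mul_cancel, Units.val_one, one_mulVec]
    rw [e.apply_symm_apply]
  right_inv x := by
    have : (fun i => (Matrix.of fun r s =>
        (((P⁻¹ : GL (Fin n) F) : Matrix (Fin n) (Fin n) F) *ᵥ x) (e.symm (r, s))) (e i).1 (e i).2) =
        ((P⁻¹ : GL (Fin n) F) : Matrix (Fin n) (Fin n) F) *ᵥ x := funext fun i => by simp
    show (P : Matrix (Fin n) (Fin n) F) *ᵥ _ = x
    rw [this, mulVec_mulVec, ← Units.val_mul, mul_inv_cancel, Units.val_one, one_mulVec]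

/-- Linear automorphisms of the space of matrices as invertible matrices. -/
def toGLHom (e : Fin n ≃ Fin n₁ × Fin n₂) (P : GL (Fin n) F) :
    (Matrix (Fin n₁) (Fin n₂) F ≃ₗ[F] Matrix (Fin n₁) (Fin n₂) F) →* GL (Fin n) F where
  toFun g := linToGL ((coords e P).symm ≪≫ₗ g ≪≫ₗ coords e P)
  map_one' := by
    rw [← linToGL.map_one]
    congr 1
    ext x : 1
    exact (coords e P).apply_symm_apply x
  map_mul' g h := by
    rw [← linToGL.map_mul]
    congr 1
    ext x : 1
    simp [LinearEquiv.mul_apply]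

theorem toGLHom_mulVec (e : Fin n ≃ Fin n₁ × Fin n₂) (P : GL (Fin n) F)
    (g : Matrix (Fin n₁) (Fin n₂) F ≃ₗ[F] Matrix (Fin n₁) (Fin n₂) F) (X : Matrix (Fin n₁) (Fin n₂) F) :
    (toGLHom e P g : Matrix (Fin n) (Fin n) F) *ᵥ coords e P X = coords e P (g X) := by
  show ((linToGL _ : GL (Fin n) F) : Matrix (Fin n) (Fin n) F) *ᵥ _ = _
  rw [linToGL_mulVec]
  simp

theorem gl_ext_coords (e : Fin n ≃ Fin n₁ × Fin n₂) (P : GL (Fin n) F) {G G' : GL (Fin n) F}
    (h : ∀ X, (G : Matrix (Fin n) (Fin n) F) *ᵥ coords e P X = (G' : Matrix (Fin n) (Fin n) F) *ᵥ coords e P X) :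
    G = G' := by
  refine Units.ext (Matrix.ext_iff_mulVec.2 fun x => ?_)
  simpa using h ((coords e P).symm x)

theorem conj_mulVec_coords (e : Fin n ≃ Fin n₁ × Fin n₂) (P G : GL (Fin n) F)
    (X : Matrix (Fin n₁) (Fin n₂) F) :
    ((MulAut.conj P G : GL (Fin n) F) : Matrix (Fin n) (Fin n) F) *ᵥ coords e P X =
      (P : Matrix (Fin n) (Fin n) F) *ᵥ ((G : Matrix (Fin n) (Fin n) F) *ᵥ fun i => X (e i).1 (e i).2) := by
  show _ *ᵥ ((P : Matrix (Fin n) (Fin n) F) *ᵥ _) = _
  rw [MulAut.conj_apply, Units.val_mul, Units.val_mul, mulVec_mulVec, Matrix.mul_assoc _ _ (P : Matrix (Fin n) (Fin n) F),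
    ← Units.val_mul P⁻¹, inv_mul_cancel, Units.val_one, Matrix.mul_one, ← mulVec_mulVec]

theorem kronecker_mulVec_coords (e : Fin n ≃ Fin n₁ × Fin n₂) (a : Matrix (Fin n₁) (Fin n₁) F)
    (b : Matrix (Fin n₂) (Fin n₂) F) (X : Matrix (Fin n₁) (Fin n₂) F) :
    Matrix.reindex e.symm e.symm (a ⊗ₖ b) *ᵥ (fun i => X (e i).1 (e i).2) =
      fun i => (a * X * bᵀ) (e i).1 (e i).2 := by
  funext i
  simp only [Matrix.mulVec, dotProduct, Matrix.reindex_apply, Matrix.submatrix_apply, Equiv.symm_symm,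
    Matrix.kroneckerMap_apply, Matrix.mul_apply, Matrix.transpose_apply]
  rw [← e.symm.sum_comp, Fintype.sum_prod_type]
  simp only [Equiv.apply_symm_apply, Finset.sum_mul]
  rw [Finset.sum_comm]
  exact Finset.sum_congr rfl fun s _ => Finset.sum_congr rfl fun r _ => by ring

theorem glReindex_coe (e : Fin n ≃ Fin n₁ × Fin n₂) (K : GL (Fin n₁ × Fin n₂) F) :
    (Cfsg.Geo.glReindex e.symm K : Matrix (Fin n) (Fin n) F) =
      Matrix.reindex e.symm e.symm (K : Matrix (Fin n₁ × Fin n₂) (Fin n₁ × Fin n₂) F) := rfl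

/-- The image of the tensor map of `A` and `C`. -/
theorem toGLHom_tensor (e : Fin n ≃ Fin n₁ × Fin n₂) (P : GL (Fin n) F)
    {g : Matrix (Fin n₁) (Fin n₂) F ≃ₗ[F] Matrix (Fin n₁) (Fin n₂) F}
    (A : GL (Fin n₁) F) (C : GL (Fin n₂) F)
    (hg : ∀ X, g X = (A : Matrix (Fin n₁) (Fin n₁) F) * X * (C : Matrix (Fin n₂) (Fin n₂) F)) :
    toGLHom e P g ∈ Cfsg.Geo.tensorProductSubgroup n₁ n₂ e P ∧
      ((toGLHom e P g : GL (Fin n) F) : Matrix (Fin n) (Fin n) F).det =
        (A : Matrix (Fin n₁) (Fin n₁) F).det ^ n₂ * (C : Matrix (Fin n₂) (Fin n₂) F).det ^ n₁ := by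
  let Ct : GL (Fin n₂) F := GeneralLinearGroup.mkOfDetNeZero (C : Matrix (Fin n₂) (Fin n₂) F)ᵀ (by
    rw [det_transpose, ← GeneralLinearGroup.val_det_apply]; exact Units.ne_zero _)
  have hne : ((A : Matrix (Fin n₁) (Fin n₁) F) ⊗ₖ (Ct : Matrix (Fin n₂) (Fin n₂) F)).det ≠ 0 := by
    rw [det_kronecker]
    exact mul_ne_zero (pow_ne_zero _ (by rw [← GeneralLinearGroup.val_det_apply]; exact Units.ne_zero _))
      (pow_ne_zero _ (by rw [← GeneralLinearGroup.val_det_apply]; exact Units.ne_zero _))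
  let K : GL (Fin n₁ × Fin n₂) F := GeneralLinearGroup.mkOfDetNeZero _ hne
  have hK : (K : Matrix (Fin n₁ × Fin n₂) (Fin n₁ × Fin n₂) F) =
      (A : Matrix (Fin n₁) (Fin n₁) F) ⊗ₖ (C : Matrix (Fin n₂) (Fin n₂) F)ᵀ := rfl
  have he : toGLHom e P g = MulAut.conj P (Cfsg.Geo.glReindex e.symm K) := gl_ext_coords e P fun X => by
    rw [toGLHom_mulVec, conj_mulVec_coords, hg, glReindex_coe, hK, kronecker_mulVec_coords, transpose_transpose]
    rfl
  refine ⟨?_, ?_⟩
  · rw [he]
    exact Subgroup.mem_map.2 ⟨_, Subgroup.mem_map.2 ⟨K, ⟨A, Ct, rfl⟩, rfl⟩, rfl⟩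
  · rw [he, MulAut.conj_apply, Units.val_mul, Units.val_mul, Matrix.det_units_conj, glReindex_coe,
      Matrix.det_reindex_self, hK, det_kronecker, det_transpose, Fintype.card_fin, Fintype.card_fin]

theorem toGLHom_mem_of_isTensor (e : Fin n ≃ Fin n₁ × Fin n₂) (P : GL (Fin n) F)
    {g : Matrix (Fin n₁) (Fin n₂) F ≃ₗ[F] Matrix (Fin n₁) (Fin n₂) F} (hg : IsTensor g) :
    toGLHom e P g ∈ Cfsg.Geo.tensorProductSubgroup n₁ n₂ e P := by
  obtain ⟨A, C, hA, hC, hg⟩ := hg
  exact (toGLHom_tensor e P (GeneralLinearGroup.mkOfDetNeZero A hA) (GeneralLinearGroup.mkOfDetNeZero C hC) hg).1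

theorem exists_toGLHom_eq (e : Fin n ≃ Fin n₁ × Fin n₂) (P G : GL (Fin n) F) :
    ∃ g, toGLHom e P g = G := by
  let L : (Fin n → F) ≃ₗ[F] (Fin n → F) :=
    { Matrix.toLin' (G : Matrix (Fin n) (Fin n) F) with
      invFun := fun x => ((G⁻¹ : GL (Fin n) F) : Matrix (Fin n) (Fin n) F) *ᵥ x
      left_inv := fun x => by simp [mulVec_mulVec, ← Units.val_mul]
      right_inv := fun x => by simp [mulVec_mulVec, ← Units.val_mul] }
  refine ⟨coords e P ≪≫ₗ L ≪≫ₗ (coords e P).symm, gl_ext_coords e P fun X => ?_⟩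
  rw [toGLHom_mulVec]
  simp [L]

variable [Finite F]

theorem isMaximal (h1 : 2 ≤ n₁) (h12 : n₁ < n₂) (hex : 3 ≤ n₁ ∨ ∃ t : F, t ≠ 0 ∧ t ≠ 1)
    (e : Fin n ≃ Fin n₁ × Fin n₂) (P : GL (Fin n) F) :
    Cfsg.Geo.IsMaximalIn (Cfsg.Geo.specialLinear (Fin n) F)
      (Cfsg.Geo.tensorProductSubgroup n₁ n₂ e P ⊓ Cfsg.Geo.specialLinear (Fin n) F) := by
  classical
  set T := Cfsg.Geo.tensorProductSubgroup n₁ n₂ e P with hT
  set S := Cfsg.Geo.specialLinear (Fin n) F with hS
  -- elementary transvections, moved by `P`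
  let tv : SpecialLinearGroup (Fin n) F →* GL (Fin n) F :=
    (MulAut.conj P).toMonoidHom.comp SpecialLinearGroup.toGL
  have htvS : ∀ s, tv s ∈ S := fun s => by
    show GeneralLinearGroup.det (P * SpecialLinearGroup.toGL s * P⁻¹) = 1
    rw [map_mul, map_mul, map_inv, mul_comm (GeneralLinearGroup.det P), mul_assoc, mul_inv_cancel, mul_one]
    exact Units.ext (by simpa using s.2)
  let i₀ : Fin n₁ := ⟨0, by omega⟩
  let i₁ : Fin n₁ := ⟨1, by omega⟩
  let k₀ : Fin n₂ := ⟨0, by omega⟩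
  let k₁ : Fin n₂ := ⟨1, by omega⟩
  have hne : e.symm (i₀, k₀) ≠ e.symm (i₁, k₁) := e.symm.injective.ne (by simp [i₀, i₁, Fin.ext_iff])
  have hnot : ¬ S ≤ T := fun hle => by
    have hmem := hle (htvS (SpecialLinearGroup.transvection hne 1))
    obtain ⟨G, hG, hGe⟩ := Subgroup.mem_map.1 hmem
    obtain ⟨K, ⟨a, b, hK⟩, hKe⟩ := Subgroup.mem_map.1 hG
    have hmat : Matrix.reindex e.symm e.symm ((a : Matrix (Fin n₁) (Fin n₁) F) ⊗ₖ (b : Matrix (Fin n₂) (Fin n₂) F)) =
        1 + Matrix.single (e.symm (i₀, k₀)) (e.symm (i₁, k₁)) (1 : F) := by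
      have h := (MulAut.conj P).injective (hGe : MulAut.conj P G = MulAut.conj P (SpecialLinearGroup.toGL _))
      rw [← hK, ← glReindex_coe, ← SpecialLinearGroup.transvection_coe hne]
      exact congrArg Units.val (hKe.trans h)
    have hent : ∀ p q : Fin n₁ × Fin n₂, (a : Matrix (Fin n₁) (Fin n₁) F) p.1 q.1 * (b : Matrix (Fin n₂) (Fin n₂) F) p.2 q.2 =
        (1 + Matrix.single (e.symm (i₀, k₀)) (e.symm (i₁, k₁)) (1 : F)) (e.symm p) (e.symm q) := fun p q => by
      rw [← hmat, Matrix.reindex_apply, Matrix.submatrix_apply, Matrix.kroneckerMap_apply]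
      simp
    have h00 := hent (i₀, k₀) (i₀, k₀)
    have hoff := hent (i₀, k₀) (i₁, k₁)
    have hmix := hent (i₀, k₀) (i₁, k₀)
    simp [Matrix.one_apply, Matrix.single_apply, i₀, i₁, k₀, k₁, Fin.ext_iff] at h00 hoff hmix
    rcases hmix with h | h
    · rw [h, zero_mul] at hoff; exact zero_ne_one hoff
    · rw [h, mul_zero] at h00; exact zero_ne_one h00
  refine ⟨lt_of_le_of_ne inf_le_right fun h => hnot (h ▸ inf_le_left), fun M hHM hMS => ?_⟩
  by_cases hMT : M ≤ T
  · exact Or.inl (le_antisymm (le_inf hMT hMS) hHM)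
  refine Or.inr (le_antisymm hMS ?_)
  obtain ⟨G₀, hG₀, hG₀T⟩ := SetLike.not_le_iff_exists.1 hMT
  set M' := M.comap (toGLHom e P) with hM'
  have hHas : ∀ (g : Matrix (Fin n₁) (Fin n₂) F ≃ₗ[F] Matrix (Fin n₁) (Fin n₂) F)
      (A : GL (Fin n₁) F) (C : GL (Fin n₂) F),
      (A : Matrix (Fin n₁) (Fin n₁) F).det = 1 → (C : Matrix (Fin n₂) (Fin n₂) F).det = 1 →
      (∀ X, g X = (A : Matrix (Fin n₁) (Fin n₁) F) * X * (C : Matrix (Fin n₂) (Fin n₂) F)) → g ∈ M' := by
    intro g A C hA hC hg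
    obtain ⟨hmem, hdet⟩ := toGLHom_tensor e P A C hg
    refine hHM ⟨hmem, ?_⟩
    show GeneralLinearGroup.det _ = 1
    exact Units.ext (by rw [GeneralLinearGroup.val_det_apply, hdet, hA, hC]; simp)
  have hcontains : ContainsSL M' := by
    constructor
    · intro C hC
      have hu : IsUnit C.det := by rw [hC]; exact isUnit_one
      let g : Matrix (Fin n₁) (Fin n₂) F ≃ₗ[F] Matrix (Fin n₁) (Fin n₂) F :=
        { toFun := fun X => X * C, invFun := fun X => X * C⁻¹
          map_add' := fun X Y => Matrix.add_mul X Y C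
          map_smul' := fun c X => Matrix.smul_mul c X C
          left_inv := fun X => mul_nonsing_inv_cancel_right C X hu
          right_inv := fun X => nonsing_inv_mul_cancel_right C X hu }
      exact ⟨g, hHas g 1 (GeneralLinearGroup.mkOfDetNeZero C hu.ne_zero) det_one hC
        (fun X => by rw [Units.val_one, Matrix.one_mul]; rfl), fun X => rfl⟩
    · intro A hA
      have hu : IsUnit A.det := by rw [hA]; exact isUnit_one
      let g : Matrix (Fin n₁) (Fin n₂) F ≃ₗ[F] Matrix (Fin n₁) (Fin n₂) F :=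
        { toFun := fun X => A * X, invFun := fun X => A⁻¹ * X
          map_add' := fun X Y => Matrix.mul_add A X Y
          map_smul' := fun c X => Matrix.mul_smul A c X
          left_inv := fun X => nonsing_inv_mul_cancel_left A X hu
          right_inv := fun X => mul_nonsing_inv_cancel_left A X hu }
      exact ⟨g, hHas g (GeneralLinearGroup.mkOfDetNeZero A hu.ne_zero) 1 hA det_one
        (fun X => by rw [Units.val_one, Matrix.mul_one]; rfl), fun X => rfl⟩
  obtain ⟨g₀, hg₀⟩ := exists_toGLHom_eq e P G₀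
  have hg₀T : ¬ IsTensor g₀ := fun h => hG₀T (hg₀ ▸ toGLHom_mem_of_isTensor e P h)
  have hroot := fun (N : Matrix (Fin n₁) (Fin n₁) F) (β b : Fin n₂ → F) (h : b ⬝ᵥ β = 0) =>
    has_root_all hcontains h1 h12 hex (show g₀ ∈ M' from Subgroup.mem_comap.2 (hg₀ ▸ hG₀)) hg₀T N h
  -- transvections between different second indices
  have hdiff : ∀ (i j : Fin n₁) (k l : Fin n₂) (h : e.symm (i, k) ≠ e.symm (j, l)) (c : F), k ≠ l →
      SpecialLinearGroup.transvection h c ∈ M.comap tv := by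
    intro i j k l h c hkl
    obtain ⟨g, hg, hgx⟩ := hroot (Matrix.single i j c) (Pi.single l 1) (Pi.single k 1) (by
      rw [dotProduct_single, mul_one, Pi.single_eq_of_ne hkl.symm])
    have he : toGLHom e P g = tv (SpecialLinearGroup.transvection h c) := gl_ext_coords e P fun X => by
      rw [toGLHom_mulVec, hgx]
      show _ = ((MulAut.conj P (SpecialLinearGroup.toGL _) : GL (Fin n) F) : Matrix (Fin n) (Fin n) F) *ᵥ _
      rw [conj_mulVec_coords]
      show (P : Matrix (Fin n) (Fin n) F) *ᵥ _ = _ *ᵥ ((SpecialLinearGroup.transvection h c : Matrix (Fin n) (Fin n) F) *ᵥ _)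
      congr 1
      funext p
      rw [Matrix.add_apply, root_apply, vecMulVec_apply, SpecialLinearGroup.transvection_coe, add_mulVec, one_mulVec,
        Pi.add_apply, single_mulVec, single_mulVec]
      have hpik : p = e.symm (i, k) ↔ (e p).1 = i ∧ (e p).2 = k := by
        rw [e.eq_symm_apply, Prod.ext_iff]
      by_cases hp : p = e.symm (i, k)
      · subst hp; simp
      · rcases not_and_or.1 (fun hh => hp (hpik.2 hh)) with h' | h' <;> simp [hp, h']
    exact Subgroup.mem_comap.2 (he ▸ hg)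
  have htop : M.comap tv = ⊤ := by
    refine sl_subgroup_eq_top _ fun p q hpq c => ?_
    obtain ⟨⟨i, k⟩, rfl⟩ := e.symm.surjective p
    obtain ⟨⟨j, l⟩, rfl⟩ := e.symm.surjective q
    by_cases hkl : k = l
    · subst hkl
      obtain ⟨m, hm⟩ : ∃ m : Fin n₂, m ≠ k := by
        haveI : Nontrivial (Fin n₂) := Fin.nontrivial_iff_two_le.2 (by omega)
        exact exists_ne k
      have hik : e.symm (i, k) ≠ e.symm (i, m) := e.symm.injective.ne (by simp [Ne.symm hm])
      have hkj : e.symm (i, m) ≠ e.symm (j, k) := e.symm.injective.ne (by simp [hm])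
      rw [show c = c * 1 from (mul_one c).symm, ← commutator_transvection hik hkj hpq c 1,
        commutatorElement_def]
      have h1' := hdiff i i k m hik c (Ne.symm hm)
      have h2' := hdiff i j m k hkj 1 hm
      exact mul_mem (mul_mem (mul_mem h1' h2') (inv_mem h1')) (inv_mem h2')
    · exact hdiff i j k l hpq c hkl
  intro G hG
  have hdet : GeneralLinearGroup.det (P⁻¹ * G * P) = 1 := by
    have h : GeneralLinearGroup.det G = 1 := hG
    rw [map_mul, map_mul, map_inv, h, mul_one, inv_mul_cancel]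
  let s : SpecialLinearGroup (Fin n) F := ⟨((P⁻¹ * G * P : GL (Fin n) F) : Matrix (Fin n) (Fin n) F),
    by rw [← GeneralLinearGroup.val_det_apply, hdet, Units.val_one]⟩
  have hs : SpecialLinearGroup.toGL s = P⁻¹ * G * P := Units.ext rfl
  have hmem : s ∈ M.comap tv := htop ▸ Subgroup.mem_top s
  have : tv s = G := by
    show P * SpecialLinearGroup.toGL s * P⁻¹ = G
    rw [hs]; group
  exact this ▸ Subgroup.mem_comap.1 hmem

end CfsgLib.Classical.TensorMax
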