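import Cfsg.Agent.Lib.Classical.FieldExtMax.Basic

/-!
# Overgroups of a linear tensor product stabiliser: basic objects

The space is that of `n₁ × n₂` matrices; the tensor maps are `X ↦ A * X * C`.
-/

set_option autoImplicit false
set_option linter.unusedSectionVars false

namespace CfsgLib.Classical.TensorMax

open Matrix Module
open CfsgLib.Classical.FieldExtMax (Has)

variable {F : Type*} [Field F] {n₁ n₂ : ℕ}

/-! ### Vectors -/

theorem exists_dot_one {n : ℕ} {v : Fin n → F} (hv : v ≠ 0) : ∃ d : Fin n → F, d ⬝ᵥ v = 1 := by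
  obtain ⟨k, hk⟩ := Function.ne_iff.1 hv
  exact ⟨Pi.single k (v k)⁻¹, by rw [single_dotProduct, inv_mul_cancel₀ (by simpa using hk)]⟩

theorem exists_dot {n : ℕ} {u v : Fin n → F} (h : u ∉ F ∙ v) :
    ∃ d : Fin n → F, d ⬝ᵥ v = 0 ∧ d ⬝ᵥ u = 1 := by
  obtain ⟨f, hfu, hfv⟩ := Submodule.exists_dual_map_eq_bot_of_notMem h inferInstance
  set d : Fin n → F := fun i => f (Pi.single i 1) with hd
  have hf : ∀ x, d ⬝ᵥ x = f x := fun x => by
    conv_rhs => rw [pi_eq_sum_univ' x]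
    simp [dotProduct, hd, map_sum, mul_comm]
  refine ⟨(f u)⁻¹ • d, ?_, ?_⟩
  · rw [smul_dotProduct, hf, show f v = 0 from by
      have := Submodule.mem_map_of_mem (f := f) (Submodule.mem_span_singleton_self v)
      rwa [hfv, Submodule.mem_bot] at this, smul_zero]
  · rw [smul_dotProduct, hf, smul_eq_mul, inv_mul_cancel₀ hfu]

theorem exists_perp {n : ℕ} {W : Type*} [AddCommGroup W] [Module F W] [FiniteDimensional F W]
    (f : (Fin n → F) →ₗ[F] W) (h : finrank F W < n) : ∃ x, x ≠ 0 ∧ f x = 0 := by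
  have := LinearMap.ker_ne_bot_of_finrank_lt (f := f) (by rwa [finrank_fin_fun])
  obtain ⟨x, hx, h0⟩ := Submodule.exists_mem_ne_zero_of_ne_bot this
  exact ⟨x, h0, hx⟩

theorem exists_perp_two {n : ℕ} (h : 3 ≤ n) (a b : Fin n → F) :
    ∃ x : Fin n → F, x ≠ 0 ∧ a ⬝ᵥ x = 0 ∧ b ⬝ᵥ x = 0 := by
  obtain ⟨x, h0, hx⟩ := exists_perp ((dotProductBilin F F a).prod (dotProductBilin F F b))
    (by rw [finrank_prod, finrank_self]; omega)
  exact ⟨x, h0, congrArg Prod.fst hx, congrArg Prod.snd hx⟩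

theorem exists_perp_notMem {n : ℕ} (h : 3 ≤ n) (b v : Fin n → F) :
    ∃ x : Fin n → F, b ⬝ᵥ x = 0 ∧ x ∉ F ∙ v := by
  by_contra hc
  push Not at hc
  have hle : LinearMap.ker (dotProductBilin F F b) ≤ F ∙ v := fun x hx => hc x hx
  have h1 := Submodule.finrank_mono hle
  have h2 : finrank F (F ∙ v) ≤ 1 := by
    have := finrank_span_le_card (R := F) ({v} : Set (Fin n → F))
    simpa using this
  have h3 := (dotProductBilin F F b).finrank_range_add_finrank_ker
  have h4 : finrank F (LinearMap.range (dotProductBilin F F b)) ≤ 1 := by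
    simpa using Submodule.finrank_le (LinearMap.range (dotProductBilin F F b))
  rw [finrank_fin_fun] at h3
  omega

theorem vecMulVec_eq_zero_iff' {m n : ℕ} {w : Fin m → F} {b : Fin n → F} :
    vecMulVec w b = 0 ↔ w = 0 ∨ b = 0 := by
  constructor
  · intro h
    by_contra hc
    push Not at hc
    obtain ⟨i, hi⟩ := Function.ne_iff.1 hc.1
    obtain ⟨j, hj⟩ := Function.ne_iff.1 hc.2
    exact mul_ne_zero hi hj (congrFun (congrFun h i) j)
  · rintro (rfl | rfl) <;> ext <;> simp [vecMulVec]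

theorem vecMulVec_zero' {m n : ℕ} (w : Fin m → F) : vecMulVec w (0 : Fin n → F) = 0 :=
  vecMulVec_eq_zero_iff'.2 (Or.inr rfl)

theorem det_one_add_vecMulVec {n : ℕ} (u v : Fin n → F) :
    det (1 + vecMulVec u v) = 1 + v ⬝ᵥ u := by
  rw [vecMulVec_eq Unit, det_one_add_replicateCol_mul_replicateRow]

/-! ### Tensor maps and roots -/

/-- `g` is a tensor map. -/
def IsTensor (g : Matrix (Fin n₁) (Fin n₂) F ≃ₗ[F] Matrix (Fin n₁) (Fin n₂) F) : Prop :=
  ∃ (A : Matrix (Fin n₁) (Fin n₁) F) (C : Matrix (Fin n₂) (Fin n₂) F),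
    A.det ≠ 0 ∧ C.det ≠ 0 ∧ ∀ X, g X = A * X * C

theorem IsTensor.mul {g h : Matrix (Fin n₁) (Fin n₂) F ≃ₗ[F] Matrix (Fin n₁) (Fin n₂) F}
    (hg : IsTensor g) (hh : IsTensor h) : IsTensor (g * h) := by
  obtain ⟨A, C, hA, hC, hg⟩ := hg
  obtain ⟨A', C', hA', hC', hh⟩ := hh
  refine ⟨A * A', C' * C, by simp [hA, hA'], by simp [hC, hC'], fun X => ?_⟩
  rw [LinearEquiv.mul_apply, hh, hg]
  simp only [Matrix.mul_assoc]

theorem IsTensor.inv {g : Matrix (Fin n₁) (Fin n₂) F ≃ₗ[F] Matrix (Fin n₁) (Fin n₂) F}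
    (hg : IsTensor g) : IsTensor g⁻¹ := by
  obtain ⟨A, C, hA, hC, hg⟩ := hg
  refine ⟨A⁻¹, C⁻¹, (isUnit_nonsing_inv_det A (isUnit_iff_ne_zero.2 hA)).ne_zero,
    (isUnit_nonsing_inv_det C (isUnit_iff_ne_zero.2 hC)).ne_zero, fun X => g.injective ?_⟩
  show g (g.symm X) = _
  rw [g.apply_symm_apply, hg, Matrix.mul_assoc A⁻¹, mul_nonsing_inv_cancel_left _ _ (isUnit_iff_ne_zero.2 hA),
    nonsing_inv_mul_cancel_right _ _ (isUnit_iff_ne_zero.2 hC)]

/-- `M` contains the tensor maps with both determinants one. -/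
structure ContainsSL (M : Subgroup (Matrix (Fin n₁) (Fin n₂) F ≃ₗ[F] Matrix (Fin n₁) (Fin n₂) F)) : Prop where
  right : ∀ C : Matrix (Fin n₂) (Fin n₂) F, C.det = 1 → ∃ e ∈ M, ∀ X, e X = X * C
  left : ∀ A : Matrix (Fin n₁) (Fin n₁) F, A.det = 1 → ∃ e ∈ M, ∀ X, e X = A * X

/-- The map `X ↦ ψ X ⊗ b`. -/
def tens (ψ : Matrix (Fin n₁) (Fin n₂) F →ₗ[F] (Fin n₁ → F)) (b : Fin n₂ → F) :
    Matrix (Fin n₁) (Fin n₂) F →ₗ[F] Matrix (Fin n₁) (Fin n₂) F where
  toFun X := vecMulVec (ψ X) b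
  map_add' X Y := by rw [map_add, add_vecMulVec]
  map_smul' c X := by rw [map_smul, smul_vecMulVec]; rfl

@[simp] theorem tens_apply (ψ : Matrix (Fin n₁) (Fin n₂) F →ₗ[F] (Fin n₁ → F)) (b : Fin n₂ → F)
    (X : Matrix (Fin n₁) (Fin n₂) F) : tens ψ b X = vecMulVec (ψ X) b := rfl

/-- The map `X ↦ N X β ⊗ b`. -/
def root (N : Matrix (Fin n₁) (Fin n₁) F) (β b : Fin n₂ → F) :
    Matrix (Fin n₁) (Fin n₂) F →ₗ[F] Matrix (Fin n₁) (Fin n₂) F where
  toFun X := N * X * vecMulVec β b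
  map_add' X Y := by rw [Matrix.mul_add, Matrix.add_mul]
  map_smul' c X := by rw [Matrix.mul_smul, Matrix.smul_mul]; rfl

@[simp] theorem root_apply (N : Matrix (Fin n₁) (Fin n₁) F) (β b : Fin n₂ → F)
    (X : Matrix (Fin n₁) (Fin n₂) F) : root N β b X = vecMulVec (N *ᵥ (X *ᵥ β)) b := by
  show N * X * vecMulVec β b = _
  rw [mul_vecMulVec, mulVec_mulVec]

theorem root_root (N N' : Matrix (Fin n₁) (Fin n₁) F) (β b β' b' : Fin n₂ → F)
    (X : Matrix (Fin n₁) (Fin n₂) F) :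
    root N β b (root N' β' b' X) = (b' ⬝ᵥ β) • root (N * N') β' b X := by
  simp only [root_apply, vecMulVec_mulVec, op_smul_eq_smul, mulVec_smul, smul_vecMulVec, ← mulVec_mulVec]

theorem root_zero_right (N : Matrix (Fin n₁) (Fin n₁) F) (β : Fin n₂ → F) : root N β 0 = 0 :=
  LinearMap.ext fun X => by simp [vecMulVec_zero']

theorem root_zero_left (N : Matrix (Fin n₁) (Fin n₁) F) (b : Fin n₂ → F) : root N 0 b = 0 :=
  LinearMap.ext fun X => by simp

variable {M : Subgroup (Matrix (Fin n₁) (Fin n₂) F ≃ₗ[F] Matrix (Fin n₁) (Fin n₂) F)}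

theorem ContainsSL.transvection (hM : ContainsSL M) {β b : Fin n₂ → F} (h : b ⬝ᵥ β = 0) :
    ∃ e ∈ M, IsTensor e ∧ (∀ X, e X = X * (1 + vecMulVec β b)) ∧
      ∀ X, e.symm X = X * (1 + vecMulVec (-β) b) := by
  obtain ⟨e, he, hex⟩ := hM.right (1 + vecMulVec β b) (by rw [det_one_add_vecMulVec, h, add_zero])
  refine ⟨e, he, ⟨1, 1 + vecMulVec β b, by simp, by simp [det_one_add_vecMulVec, h], by simpa using hex⟩,
    hex, fun X => e.injective ?_⟩
  rw [e.apply_symm_apply, hex, Matrix.mul_assoc]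
  have : (1 + vecMulVec (-β) b) * (1 + vecMulVec β b) = (1 : Matrix (Fin n₂) (Fin n₂) F) := by
    rw [Matrix.add_mul, Matrix.one_mul, Matrix.mul_add, Matrix.mul_one, vecMulVec_mul_vecMulVec, h, zero_smul,
      neg_vecMulVec]
    simp
  rw [this, Matrix.mul_one]

theorem has_root_one (hM : ContainsSL M) {β b : Fin n₂ → F} (h : b ⬝ᵥ β = 0) : Has M (root 1 β b) := by
  obtain ⟨e, he, -, hex, -⟩ := hM.transvection h
  exact ⟨e, he, fun X => by rw [hex, Matrix.mul_add, Matrix.mul_one, root_apply, one_mulVec, mul_vecMulVec]⟩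

/-! ### The two recognition lemmas -/

/-- A tensor map that is one plus a map of small rank is a right transvection. -/
theorem range_of_isTensor (h12 : n₁ < n₂) (h1 : 0 < n₁)
    {g : Matrix (Fin n₁) (Fin n₂) F ≃ₗ[F] Matrix (Fin n₁) (Fin n₂) F} (hg : IsTensor g)
    {U : Matrix (Fin n₁) (Fin n₂) F →ₗ[F] Matrix (Fin n₁) (Fin n₂) F} (hU : ∀ X, g X = X + U X)
    (hr : finrank F (LinearMap.range U) ≤ n₁) :
    ∃ η c, ∀ X, U X = vecMulVec (X *ᵥ η) c := by
  obtain ⟨A, C, hA, hC, hg⟩ := hg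
  have hev : ∀ u : Fin n₁ → F, ∃ a : F, A *ᵥ u = a • u := by
    intro u
    let f : (Fin n₂ → F) →ₗ[F] LinearMap.range U :=
      (U ∘ₗ (vecMulVecBilin F F u)).codRestrict _ fun c => LinearMap.mem_range_self U _
    obtain ⟨c, hc0, hc⟩ := exists_perp f (hr.trans_lt h12)
    have h0 : g (vecMulVec u c) = vecMulVec u c := by
      rw [hU, show U (vecMulVec u c) = 0 from congrArg Subtype.val hc, add_zero]
    rw [hg, mul_vecMulVec, vecMulVec_mul] at h0
    have hcC : c ᵥ* C ≠ 0 := fun h => hc0 (eq_zero_of_vecMul_eq_zero hC h)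
    obtain ⟨d, hd⟩ := exists_dot_one hcC
    refine ⟨c ⬝ᵥ d, ?_⟩
    have h2 := congrArg (· *ᵥ d) h0
    simp only [vecMulVec_mulVec, op_smul_eq_smul] at h2
    rwa [dotProduct_comm (c ᵥ* C), hd, one_smul] at h2
  obtain ⟨a, ha⟩ := (A.mulVecLin).exists_eq_smul_id_of_forall_notLinearIndependent (fun u hli => by
    obtain ⟨a, ha⟩ := hev u
    have hu : u ≠ 0 := by simpa using hli.ne_zero 0
    exact (LinearIndependent.pair_iff' hu).1 hli a (by simpa using ha.symm))
  set D := a • C - 1 with hD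
  have hUD : ∀ X, U X = X * D := fun X => by
    have h3 : g X = X + U X := hU X
    rw [hg] at h3
    have hAX : A = a • (1 : Matrix (Fin n₁) (Fin n₁) F) := Matrix.ext_iff_mulVec.2 fun u => by
      rw [smul_mulVec, one_mulVec]
      simpa using LinearMap.congr_fun ha u
    rw [hAX, Matrix.smul_mul, Matrix.one_mul, Matrix.smul_mul] at h3
    rw [hD, Matrix.mul_sub, Matrix.mul_one, Matrix.mul_smul, h3]
    abel
  by_cases hD0 : D = 0
  · exact ⟨0, 0, fun X => by simp [hUD, hD0]⟩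
  obtain ⟨k, hk⟩ : ∃ k, D k ≠ 0 := by
    by_contra hc
    push Not at hc
    exact hD0 (funext hc)
  have hrow : ∀ l, D l ∈ F ∙ D k := by
    intro l
    by_contra hl
    obtain ⟨d, hdk, hdl⟩ := exists_dot hl
    let f : ((Fin n₁ → F) × (Fin n₁ → F)) →ₗ[F] LinearMap.range U :=
      (U ∘ₗ (((vecMulVecBilin F F).flip (Pi.single l 1)).coprod
        ((vecMulVecBilin F F).flip (Pi.single k 1)))).codRestrict _ fun c => LinearMap.mem_range_self U _
    have hinj : Function.Injective f := by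
      refine (injective_iff_map_eq_zero f).2 fun p hp => ?_
      have hp' : vecMulVec p.1 (D l) + vecMulVec p.2 (D k) = 0 := by
        have := congrArg Subtype.val hp
        simpa [f, hUD, Matrix.add_mul, vecMulVec_mul, single_one_vecMul, Matrix.row] using this
      have h1' := congrArg (· *ᵥ d) hp'
      simp only [add_mulVec, vecMulVec_mulVec, op_smul_eq_smul, dotProduct_comm _ d, hdk, hdl, one_smul,
        zero_smul, add_zero, zero_mulVec] at h1'
      rw [h1', zero_vecMulVec, zero_add] at hp'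
      exact Prod.ext h1' ((vecMulVec_eq_zero_iff'.1 hp').resolve_right hk)
    have := LinearMap.finrank_le_finrank_of_injective hinj
    rw [finrank_prod, finrank_fin_fun] at this
    omega
  choose η hη using fun l => Submodule.mem_span_singleton.1 (hrow l)
  refine ⟨η, D k, fun X => ?_⟩
  have : D = vecMulVec η (D k) := Matrix.ext fun l j => by
    rw [vecMulVec_apply, ← hη l]; rfl
  rw [hUD, ← mul_vecMulVec]
  exact congrArg (X * ·) this

/-- An injective map permuting the subspaces `V₁ ⊗ b` is a tensor map. -/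
theorem isTensor_of_forall (h1 : 0 < n₁) (h2 : 0 < n₂)
    (G : Matrix (Fin n₁) (Fin n₂) F ≃ₗ[F] Matrix (Fin n₁) (Fin n₂) F)
    (h : ∀ b : Fin n₂ → F, b ≠ 0 → ∃ c, ∀ w, ∃ w', G (vecMulVec w b) = vecMulVec w' c) : IsTensor G := by
  classical
  haveI : Nonempty (Fin n₁) := ⟨⟨0, h1⟩⟩
  have hs : ∀ j : Fin n₂, (Pi.single j 1 : Fin n₂ → F) ≠ 0 := fun j => by simp
  choose c hc using fun j => h _ (hs j)
  have hinj : ∀ (b : Fin n₂ → F), b ≠ 0 → ∀ w, G (vecMulVec w b) = 0 → w = 0 := fun b hb w hw =>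
    (vecMulVec_eq_zero_iff'.1 (G.map_eq_zero_iff.1 hw)).resolve_right hb
  have hc0 : ∀ j, c j ≠ 0 := fun j h0 => by
    obtain ⟨w', hw'⟩ := hc j (Pi.single (Classical.arbitrary _) 1)
    rw [h0, vecMulVec_zero'] at hw'
    have := hinj _ (hs j) _ hw'
    simpa using congrFun this (Classical.arbitrary _)
  choose d hd using fun j => exists_dot_one (hc0 j)
  let φ : Fin n₂ → ((Fin n₁ → F) →ₗ[F] (Fin n₁ → F)) := fun j =>
    ((Matrix.mulVecBilin F F).flip (d j)) ∘ₗ G.toLinearMap ∘ₗ (vecMulVecBilin F F).flip (Pi.single j 1)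
  have hφ : ∀ j w, G (vecMulVec w (Pi.single j 1)) = vecMulVec (φ j w) (c j) := fun j w => by
    obtain ⟨w', hw'⟩ := hc j w
    show _ = vecMulVec (G (vecMulVec w (Pi.single j 1)) *ᵥ d j) (c j)
    rw [hw', vecMulVec_mulVec, op_smul_eq_smul, dotProduct_comm, hd, one_smul]
  have hφi : ∀ j, Function.Injective (φ j) := fun j => (injective_iff_map_eq_zero _).2 fun w hw =>
    hinj _ (hs j) w (by rw [hφ, hw, zero_vecMulVec])
  have hind : ∀ i j, i ≠ j → c j ∉ F ∙ c i := by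
    intro i j hij hmem
    obtain ⟨a, ha⟩ := Submodule.mem_span_singleton.1 hmem
    obtain ⟨w, hw⟩ : ∃ w : Fin n₁ → F, w ≠ 0 := exists_ne 0
    obtain ⟨w', hw'⟩ := LinearMap.injective_iff_surjective.1 (hφi i) (a • φ j w)
    have h0 : G (vecMulVec w' (Pi.single i 1) - vecMulVec w (Pi.single j 1)) = 0 := by
      rw [map_sub, hφ, hφ, hw', ← ha, smul_vecMulVec, vecMulVec_smul, sub_self]
    have h0' := G.map_eq_zero_iff.1 h0
    have h5 : w = 0 := funext fun l => by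
      have := congrFun (congrFun h0' l) j
      simpa [vecMulVec_apply, Ne.symm hij] using this
    exact hw h5
  let j₀ : Fin n₂ := ⟨0, h2⟩
  have hk : ∀ j, ∃ k : F, ∀ w, φ j w = k • φ j₀ w := by
    intro j
    rcases eq_or_ne j j₀ with rfl | hj
    · exact ⟨1, fun w => (one_smul F _).symm⟩
    obtain ⟨cc, hcc⟩ := h (Pi.single j₀ 1 + Pi.single j 1) (fun h0 => by
      simpa [Ne.symm hj] using congrFun h0 j₀)
    obtain ⟨δ, hδj, hδ0⟩ := exists_dot (hind j j₀ hj)
    obtain ⟨δ', hδ'0, hδ'j⟩ := exists_dot (hind j₀ j (Ne.symm hj))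
    refine ⟨(cc ⬝ᵥ δ') * (cc ⬝ᵥ δ)⁻¹, fun w => ?_⟩
    rcases eq_or_ne w 0 with rfl | hw
    · simp
    obtain ⟨w', hw'⟩ := hcc w
    rw [vecMulVec_add, map_add, hφ, hφ] at hw'
    have e0 : φ j₀ w = (cc ⬝ᵥ δ) • w' := by
      have := congrArg (· *ᵥ δ) hw'
      simpa [add_mulVec, vecMulVec_mulVec, op_smul_eq_smul, dotProduct_comm _ δ, hδj, hδ0] using this
    have ej : φ j w = (cc ⬝ᵥ δ') • w' := by
      have := congrArg (· *ᵥ δ') hw'
      simpa [add_mulVec, vecMulVec_mulVec, op_smul_eq_smul, dotProduct_comm _ δ', hδ'j, hδ'0] using this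
    have hne : cc ⬝ᵥ δ ≠ 0 := fun h0 => hw (hφi j₀ (by rw [e0, h0, zero_smul, map_zero]))
    rw [ej, e0, smul_smul, mul_assoc, inv_mul_cancel₀ hne, mul_one]
  choose k hk using hk
  set A := LinearMap.toMatrix' (φ j₀) with hA
  set C : Matrix (Fin n₂) (Fin n₂) F := Matrix.of fun j => k j • c j with hC
  have key : ∀ w j, G (vecMulVec w (Pi.single j 1)) = A * vecMulVec w (Pi.single j 1) * C := fun w j => by
    rw [mul_vecMulVec, vecMulVec_mul, single_one_vecMul, hφ, hk, hA, LinearMap.toMatrix'_mulVec]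
    show _ = vecMulVec (φ j₀ w) (k j • c j)
    rw [vecMulVec_smul, smul_vecMulVec]
  have hG : ∀ X, G X = A * X * C := fun X => by
    have hX : X = ∑ j, vecMulVec (fun i => X i j) (Pi.single j 1) := Matrix.ext fun i l => by
      simp [Matrix.sum_apply, vecMulVec_apply, Pi.single_apply]
    rw [hX, map_sum, Matrix.mul_sum, Matrix.sum_mul]
    exact Finset.sum_congr rfl fun j _ => key _ j
  refine ⟨A, C, fun h0 => ?_, fun h0 => ?_, hG⟩
  · obtain ⟨w, hw, hw0⟩ := exists_mulVec_eq_zero_iff.2 h0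
    exact hw (hinj _ (hs j₀) w (by rw [hG, mul_vecMulVec, hw0, zero_vecMulVec, Matrix.zero_mul]))
  · obtain ⟨v, hv, hv0⟩ := exists_vecMul_eq_zero_iff.2 h0
    obtain ⟨w, hw⟩ : ∃ w : Fin n₁ → F, w ≠ 0 := exists_ne 0
    refine hw (hinj v hv w ?_)
    rw [hG, Matrix.mul_assoc, vecMulVec_mul, hv0, vecMulVec_zero', Matrix.mul_zero]

end CfsgLib.Classical.TensorMax
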