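import Cfsg.Agent.Lib.Classical.TensorMax.Spread

/-!
# A root element with a factor that is not a scalar
-/

set_option autoImplicit false
set_option linter.unusedSectionVars false

namespace CfsgLib.Classical.TensorMax

open Matrix Module
open CfsgLib.Classical.FieldExtMax (Has)

variable {F : Type*} [Field F] {n₁ n₂ : ℕ}
  {M : Subgroup (Matrix (Fin n₁) (Fin n₂) F ≃ₗ[F] Matrix (Fin n₁) (Fin n₂) F)}

theorem det_one_add_of_isNilpotent {n : ℕ} {C : Matrix (Fin n) (Fin n) F} (h : IsNilpotent C) :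
    det (1 + C) = 1 := by
  obtain ⟨r, -, hr⟩ := Polynomial.isUnit_iff.1 (Matrix.isUnit_charpolyRev_of_isNilpotent h)
  have h0 : Polynomial.eval 0 C.charpolyRev = 1 := Matrix.eval_charpolyRev
  rw [← hr, Polynomial.eval_C] at h0
  have h1 : Polynomial.eval (-1) C.charpolyRev = 1 := by rw [← hr, Polynomial.eval_C, h0]
  rw [← h1, Matrix.charpolyRev, ← Polynomial.coe_evalRingHom, RingHom.map_det]
  congr 1
  ext i j
  rcases eq_or_ne i j with rfl | hij
  · simp
  · simp [Matrix.one_apply_ne hij]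

/-- Either a root element with a non-scalar factor, or a scalar behaviour on every tensor. -/
theorem scalar_or_root (hM : ContainsSL M) (h3 : 3 ≤ n₂) {b : Fin n₂ → F} (hb : b ≠ 0)
    {ψ : Matrix (Fin n₁) (Fin n₂) F →ₗ[F] (Fin n₁ → F)} (hψ : ∀ w, ψ (vecMulVec w b) = 0)
    (hT : Has M (tens ψ b)) :
    (∃ lam : Fin n₂ → F, ∀ X, ψ X = X *ᵥ lam) ∨
      ∃ (N : Matrix (Fin n₁) (Fin n₁) F) (β b : Fin n₂ → F),
        β ≠ 0 ∧ b ≠ 0 ∧ b ⬝ᵥ β = 0 ∧ (∃ v, N *ᵥ v ∉ F ∙ v) ∧ Has M (root N β b) := by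
  classical
  by_cases hall : ∀ (d : Fin n₂ → F) w, ψ (vecMulVec w d) ∈ F ∙ w
  · left
    have hsc : ∀ j : Fin n₂, ∃ a : F, ∀ w, ψ (vecMulVec w (Pi.single j 1)) = a • w := fun j => by
      obtain ⟨a, ha⟩ := (ψ ∘ₗ (vecMulVecBilin F F).flip (Pi.single j 1)).exists_eq_smul_id_of_forall_notLinearIndependent
        (fun u hli => by
          obtain ⟨k, hk⟩ := Submodule.mem_span_singleton.1 (hall (Pi.single j 1) u)
          have hu : u ≠ 0 := by simpa using hli.ne_zero 0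
          exact (LinearIndependent.pair_iff' hu).1 hli k (by simpa using hk))
      exact ⟨a, fun w => by simpa using LinearMap.congr_fun ha w⟩
    choose lam hlam using hsc
    refine ⟨lam, fun X => ?_⟩
    have hX : X = ∑ j, vecMulVec (fun i => X i j) (Pi.single j 1) := Matrix.ext fun i l => by
      simp [Matrix.sum_apply, vecMulVec_apply, Pi.single_apply]
    conv_lhs => rw [hX, map_sum]
    funext i
    simp [hlam, Matrix.mulVec, dotProduct, Finset.sum_apply, mul_comm]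
  · right
    push Not at hall
    obtain ⟨d, w₀, hw₀⟩ := hall
    obtain ⟨β, hβ0, hbβ, hdβ⟩ := exists_perp_two h3 b d
    set N := LinearMap.toMatrix' (ψ ∘ₗ (vecMulVecBilin F F).flip d) with hN
    have hNw : ∀ w, N *ᵥ w = ψ (vecMulVec w d) := fun w => by rw [hN, LinearMap.toMatrix'_mulVec]; simp
    obtain ⟨e, he, -, hex, hexs⟩ := hM.transvection hdβ
    have heW : ∀ w, e (vecMulVec w b) = vecMulVec w b := fun w => by
      rw [hex, vecMulVec_mul, Matrix.vecMul_add, Matrix.vecMul_one, vecMul_vecMulVec, hbβ, zero_smul, add_zero]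
    have hconj : ∀ X, (e.toLinearMap ∘ₗ tens ψ b ∘ₗ e.symm.toLinearMap) X
        = vecMulVec (ψ X - N *ᵥ (X *ᵥ β)) b := fun X => by
      show e (vecMulVec (ψ (e.symm X)) b) = _
      rw [heW, hexs, Matrix.mul_add, Matrix.mul_one, mul_vecMulVec, map_add, mulVec_neg, neg_vecMulVec, map_neg,
        hNw, sub_eq_add_neg]
    have hsub := (hT.neg fun X => by simp [hψ]).add (hT.conj he) fun X => by
      rw [hconj, LinearMap.neg_apply, tens_apply, hψ, zero_vecMulVec, neg_zero]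
    refine ⟨-N, β, b, hβ0, hb, hbβ, ⟨w₀, ?_⟩, hsub.congr fun X => ?_⟩
    · rw [neg_mulVec, Submodule.neg_mem_iff, hNw]; exact hw₀
    · rw [LinearMap.add_apply, hconj, LinearMap.neg_apply, tens_apply, root_apply, sub_vecMulVec, neg_mulVec,
        neg_vecMulVec]
      abel

/-- A root element of the overgroup with a factor that is not a scalar. -/
theorem exists_root (hM : ContainsSL M) (h1 : 0 < n₁) (h12 : n₁ < n₂) (h3 : 3 ≤ n₂)
    {g₀ : Matrix (Fin n₁) (Fin n₂) F ≃ₗ[F] Matrix (Fin n₁) (Fin n₂) F} (hg₀ : g₀ ∈ M)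
    (hg₀T : ¬ IsTensor g₀) :
    ∃ (N : Matrix (Fin n₁) (Fin n₁) F) (β b : Fin n₂ → F),
      β ≠ 0 ∧ b ≠ 0 ∧ b ⬝ᵥ β = 0 ∧ (∃ v, N *ᵥ v ∉ F ∙ v) ∧ Has M (root N β b) := by
  classical
  by_contra hno
  obtain ⟨h, hh, hhT, b, U, hb, hU, hU2, hUb⟩ := exists_fix hM h1 h12 h3 hg₀ hg₀T
  have hscal : ∀ γ, b ⬝ᵥ γ = 0 → ∃ lam : Fin n₂ → F, ∀ X, U X *ᵥ γ = X *ᵥ lam := fun γ hγ => by
    let ψ : Matrix (Fin n₁) (Fin n₂) F →ₗ[F] (Fin n₁ → F) := (mulVecBilin F F).flip γ ∘ₗ U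
    have hψ : Has M (tens ψ b) := ((has_root_one hM hγ).comm ⟨h, hh, hU⟩
      (fun X => by rw [root_root, hγ, zero_smul]) hU2 (fun X => by rw [root_apply, hUb])).congr fun X => by
        simp [ψ]
    rcases scalar_or_root hM h3 hb (fun w => by simp [ψ, hUb]) hψ with hl | hr
    · exact hl
    · exact absurd hr hno
  -- normalise
  obtain ⟨δ, hδ⟩ := exists_dot_one hb
  rw [dotProduct_comm] at hδ
  choose lam hlam using fun l : Fin n₂ => hscal (Pi.single l 1 - b l • δ) (by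
    rw [dotProduct_sub, dotProduct_single, dotProduct_smul, hδ, smul_eq_mul, mul_one, sub_self])
  set C₀ : Matrix (Fin n₂) (Fin n₂) F := Matrix.of fun i l => lam l i with hC₀
  have hUX : ∀ X, U X = X * C₀ + vecMulVec (U X *ᵥ δ) b := fun X => Matrix.ext fun i l => by
    have := congrFun (hlam l X) i
    simp only [mulVec_sub, mulVec_single, mulVec_smul, Pi.sub_apply, Pi.smul_apply, MulOpposite.op_one,
      one_smul, col_apply, smul_eq_mul] at this
    have h5 : (X * C₀) i l = (X *ᵥ lam l) i := rfl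
    rw [Matrix.add_apply, vecMulVec_apply, h5, ← this]
    ring
  obtain ⟨w₁, hw₁⟩ : ∃ w : Fin n₁ → F, w ≠ 0 := by
    haveI : Nonempty (Fin n₁) := ⟨⟨0, h1⟩⟩
    exact exists_ne 0
  obtain ⟨d₁, hd₁⟩ := exists_dot_one hw₁
  obtain ⟨μ, hμ⟩ : ∃ μ : F, b ᵥ* C₀ = μ • b := by
    refine ⟨-(d₁ ⬝ᵥ (U (vecMulVec w₁ b) *ᵥ δ)), ?_⟩
    have h4 := congrArg (d₁ ᵥ* ·) (hUX (vecMulVec w₁ b))
    simp only [hUb, vecMulVec_mul, vecMul_zero, Matrix.vecMul_add, vecMul_vecMulVec, hd₁, one_smul,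
      zero_mulVec, dotProduct_zero, zero_smul, neg_zero] at h4 ⊢
    simpa using h4.symm
  set C := C₀ - vecMulVec δ (b ᵥ* C₀) with hC
  set φ : Matrix (Fin n₁) (Fin n₂) F →ₗ[F] (Fin n₁ → F) :=
    (mulVecBilin F F).flip δ ∘ₗ U + μ • (mulVecBilin F F).flip δ with hφ
  have hUC : ∀ X, U X = X * C + vecMulVec (φ X) b := fun X => by
    conv_lhs => rw [hUX X]
    rw [hC, hμ, Matrix.mul_sub, mul_vecMulVec, vecMulVec_smul]
    simp only [hφ, LinearMap.add_apply, LinearMap.comp_apply, LinearMap.smul_apply, LinearEquiv.coe_coe,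
      LinearMap.flip_apply, mulVecBilin_apply, add_vecMulVec, smul_vecMulVec]
    abel
  have hbC : b ᵥ* C = 0 := by
    rw [hC, vecMul_sub, vecMul_vecMulVec, hδ, one_smul, sub_self]
  have hφb : ∀ w, φ (vecMulVec w b) = 0 := fun w => by
    have h4 := (hUC (vecMulVec w b)).symm
    rw [hUb, vecMulVec_mul, hbC, vecMulVec_zero', zero_add] at h4
    exact (vecMulVec_eq_zero_iff'.1 h4).resolve_right hb
  have hC3 : C ^ 3 = 0 := by
    have h5 : ∀ X : Matrix (Fin n₁) (Fin n₂) F, X * C ^ 3 = 0 := fun X => by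
      have h4 := hU2 X
      rw [hUC X, map_add, hUb, add_zero, hUC (X * C)] at h4
      have h6 := congrArg (· * C) h4
      simp only [Matrix.add_mul, vecMulVec_mul, hbC, vecMulVec_zero', add_zero, Matrix.zero_mul] at h6
      rw [pow_succ, pow_two, ← Matrix.mul_assoc, ← Matrix.mul_assoc]
      exact h6
    refine Matrix.ext fun i l => ?_
    have h7 := congrArg (d₁ ᵥ* ·) (h5 (vecMulVec w₁ (Pi.single i 1)))
    simp only [vecMulVec_mul, vecMul_vecMulVec, hd₁, one_smul, vecMul_zero, single_one_vecMul] at h7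
    exact congrFun h7 l
  have hdet : det (1 + C) = 1 := det_one_add_of_isNilpotent ⟨3, hC3⟩
  obtain ⟨r, hr, hrx⟩ := hM.right _ hdet
  have hrT : IsTensor r := ⟨1, 1 + C, by simp, by rw [hdet]; exact one_ne_zero, by simpa using hrx⟩
  set φ' : Matrix (Fin n₁) (Fin n₂) F →ₗ[F] (Fin n₁ → F) := φ ∘ₗ r.symm.toLinearMap with hφ'
  have hrb : ∀ w, r.symm (vecMulVec w b) = vecMulVec w b := fun w => r.symm_apply_eq.2 (by
    rw [hrx, vecMulVec_mul, Matrix.vecMul_add, Matrix.vecMul_one, hbC, add_zero])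
  have hh' : ∀ Y, (h * r⁻¹) Y = Y + tens φ' b Y := fun Y => by
    obtain ⟨X, rfl⟩ := r.surjective Y
    show h (r.symm (r X)) = r X + vecMulVec (φ (r.symm (r X))) b
    rw [r.symm_apply_apply, hU, hUC, hrx, Matrix.mul_add, Matrix.mul_one, add_assoc]
  rcases scalar_or_root hM h3 hb (ψ := φ') (fun w => by simp [φ', hrb, hφb])
    ⟨h * r⁻¹, mul_mem hh (inv_mem hr), hh'⟩ with ⟨l, hl⟩ | hroot
  · have hbl : b ⬝ᵥ l = 0 := by
      have := hl (vecMulVec w₁ b)
      rw [show φ' (vecMulVec w₁ b) = 0 by simp [φ', hrb, hφb], vecMulVec_mulVec, op_smul_eq_smul] at this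
      exact (smul_eq_zero.1 this.symm).resolve_right hw₁
    have hT : IsTensor (h * r⁻¹) := ⟨1, 1 + vecMulVec l b, by simp,
      by simp [det_one_add_vecMulVec, hbl],
      fun Y => by rw [hh', tens_apply, hl, Matrix.one_mul, Matrix.mul_add, Matrix.mul_one, mul_vecMulVec]⟩
    exact hhT (by simpa using hT.mul hrT)
  · exact hno hroot

end CfsgLib.Classical.TensorMax
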