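import Cfsg.Agent.Lib.Classical.TensorMax.Basic

/-!
# An element outside the stabiliser fixing a whole subspace `V₁ ⊗ b`
-/

set_option autoImplicit false
set_option linter.unusedSectionVars false

namespace CfsgLib.Classical.TensorMax

open Matrix Module

variable {F : Type*} [Field F] {n₁ n₂ : ℕ}
  {M : Subgroup (Matrix (Fin n₁) (Fin n₂) F ≃ₗ[F] Matrix (Fin n₁) (Fin n₂) F)}

/-- A conjugate of a right transvection that is not a tensor map. -/
theorem exists_conj_not_isTensor (hM : ContainsSL M) (h1 : 0 < n₁) (h12 : n₁ < n₂) (h3 : 3 ≤ n₂)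
    {g : Matrix (Fin n₁) (Fin n₂) F ≃ₗ[F] Matrix (Fin n₁) (Fin n₂) F} (hg : g ∈ M) (hgT : ¬ IsTensor g)
    (c : Fin n₂ → F) :
    ∃ h ∈ M, ¬ IsTensor h ∧ ∃ U : Matrix (Fin n₁) (Fin n₂) F →ₗ[F] Matrix (Fin n₁) (Fin n₂) F,
      (∀ X, h X = X + U X) ∧ (∀ X, U (U X) = 0) ∧ finrank F (LinearMap.range U) ≤ n₁ ∧
        ∀ X, (∃ w, g X = vecMulVec w c) → U X = 0 := by
  by_contra hno
  have hgi : IsTensor g⁻¹ := by
    refine isTensor_of_forall h1 (by omega) g⁻¹ fun b' _ => ?_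
    obtain ⟨β, hβ0, hcβ, hbβ⟩ := exists_perp_two h3 c b'
    obtain ⟨e, he, -, hex, -⟩ := hM.transvection hbβ
    set U := g.symm.toLinearMap ∘ₗ root 1 β b' ∘ₗ g.toLinearMap with hU
    have hUapp : ∀ X, U X = g.symm (vecMulVec (g X *ᵥ β) b') := fun X => by
      simp [hU]
    have hrange : finrank F (LinearMap.range U) ≤ n₁ := by
      let L : (Fin n₁ → F) →ₗ[F] Matrix (Fin n₁) (Fin n₂) F :=
        g.symm.toLinearMap ∘ₗ (vecMulVecBilin F F).flip b'
      have hle : LinearMap.range U ≤ LinearMap.range L := by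
        rintro _ ⟨X, rfl⟩
        exact ⟨g X *ᵥ β, by simp [L, hUapp]⟩
      exact (Submodule.finrank_mono hle).trans (by simpa using LinearMap.finrank_range_le L)
    have hhU : ∀ X, (g⁻¹ * e * g) X = X + U X := fun X => by
      show g.symm (e (g X)) = _
      rw [hex, Matrix.mul_add, Matrix.mul_one, map_add, g.symm_apply_apply, hUapp, mul_vecMulVec]
    by_contra hcon
    refine hno ⟨g⁻¹ * e * g, mul_mem (mul_mem (inv_mem hg) he) hg, fun hT => hcon ?_, U, hhU, fun X => ?_,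
      hrange, fun X ⟨w, hw⟩ => ?_⟩
    · obtain ⟨η, c', hc'⟩ := range_of_isTensor h12 h1 hT hhU hrange
      obtain ⟨d, hd⟩ := exists_dot_one hβ0
      refine ⟨c', fun w => ⟨g.symm (vecMulVec w d) *ᵥ η, ?_⟩⟩
      rw [← hc', hUapp, g.apply_symm_apply, vecMulVec_mulVec, op_smul_eq_smul, hd, one_smul]
      rfl
    · rw [hUapp, hUapp X, g.apply_symm_apply, vecMulVec_mulVec, op_smul_eq_smul, hbβ, zero_smul,
        zero_vecMulVec, map_zero]
    · rw [hUapp, hw, vecMulVec_mulVec, op_smul_eq_smul, hcβ, zero_smul, zero_vecMulVec, map_zero]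
  exact hgT (by simpa using hgi.inv)

/-- Some element outside the stabiliser maps `a` dimensions of one `V₁ ⊗ b` into one `V₁ ⊗ c`. -/
theorem exists_mapsTo (hM : ContainsSL M) (h1 : 0 < n₁) (h12 : n₁ < n₂) (h3 : 3 ≤ n₂)
    {g₀ : Matrix (Fin n₁) (Fin n₂) F ≃ₗ[F] Matrix (Fin n₁) (Fin n₂) F} (hg₀ : g₀ ∈ M)
    (hg₀T : ¬ IsTensor g₀) (a : ℕ) (ha : a + 1 ≤ n₁) :
    ∃ g ∈ M, ¬ IsTensor g ∧ ∃ (W₀ : Submodule F (Fin n₁ → F)) (b c : Fin n₂ → F),
      b ≠ 0 ∧ a + 1 ≤ finrank F W₀ ∧ ∀ w ∈ W₀, ∃ w', g (vecMulVec w b) = vecMulVec w' c := by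
  haveI : Nonempty (Fin n₁) := ⟨⟨0, h1⟩⟩
  induction a with
  | zero =>
    obtain ⟨h, hh, hhT, U, hU, hU2, hr, -⟩ := exists_conj_not_isTensor hM h1 h12 h3 hg₀ hg₀T 0
    obtain ⟨u, hu⟩ : ∃ u : Fin n₁ → F, u ≠ 0 := exists_ne 0
    let f : (Fin n₂ → F) →ₗ[F] LinearMap.range U :=
      (U ∘ₗ (vecMulVecBilin F F u)).codRestrict _ fun x => LinearMap.mem_range_self U _
    obtain ⟨b, hb, hb0⟩ := exists_perp f (hr.trans_lt h12)
    refine ⟨h, hh, hhT, F ∙ u, b, b, hb, by rw [finrank_span_singleton hu], fun w hw => ⟨w, ?_⟩⟩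
    obtain ⟨k, rfl⟩ := Submodule.mem_span_singleton.1 hw
    rw [hU, smul_vecMulVec, map_smul, show U (vecMulVec u b) = 0 from congrArg Subtype.val hb0, smul_zero,
      add_zero]
  | succ a ih =>
    obtain ⟨g, hg, hgT, W₀, b, c, hb, hdim, hW⟩ := ih (by omega)
    by_cases hbig : a + 1 + 1 ≤ finrank F W₀
    · exact ⟨g, hg, hgT, W₀, b, c, hb, hbig, hW⟩
    obtain ⟨h, hh, hhT, U, hU, hU2, hr, hkill⟩ := exists_conj_not_isTensor hM h1 h12 h3 hg hgT c
    have hW0 : ∀ w ∈ W₀, U (vecMulVec w b) = 0 := fun w hw => hkill _ (hW w hw)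
    -- the part of `V₁ ⊗ b` fixed by `h`
    set K := LinearMap.ker (U ∘ₗ (vecMulVecBilin F F).flip b) with hK
    have hKmem : ∀ w, w ∈ K ↔ U (vecMulVec w b) = 0 := fun w => Iff.rfl
    have hWK : W₀ ≤ K := fun w hw => (hKmem w).2 (hW0 w hw)
    by_cases hKbig : a + 1 + 1 ≤ finrank F K
    · exact ⟨h, hh, hhT, K, b, b, hb, hKbig, fun w hw => ⟨w, by rw [hU, (hKmem w).1 hw, add_zero]⟩⟩
    have hKW : K = W₀ := (Submodule.eq_of_le_of_finrank_le hWK (by omega)).symm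
    obtain ⟨x₀, -, hx₀⟩ := SetLike.exists_of_lt (show W₀ < ⊤ from lt_top_iff_ne_top.2 fun htop => by
      rw [htop, finrank_top, finrank_fin_fun] at hbig; omega)
    set z := U (vecMulVec x₀ b) with hz
    -- choose `γ`
    obtain ⟨γ, hγ0, hγ⟩ := exists_perp ((dotProductBilin F F b).prod (W₀.mkQ ∘ₗ Matrix.mulVecBilin F F z))
      (by
        rw [finrank_prod, finrank_self]
        have := W₀.finrank_quotient_add_finrank
        rw [finrank_fin_fun] at this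
        omega)
    have hbγ : b ⬝ᵥ γ = 0 := congrArg Prod.fst hγ
    have hzγ : z *ᵥ γ ∈ W₀ := (Submodule.Quotient.mk_eq_zero W₀).1 (congrArg Prod.snd hγ)
    obtain ⟨e, he, heT, hex, hexs⟩ := hM.transvection hbγ
    have hhs : ∀ X, h.symm X = X - U X := fun X => h.injective (by
      rw [h.apply_symm_apply, hU, map_sub, hU2]; abel)
    have heW : ∀ w, e (vecMulVec w b) = vecMulVec w b := fun w => by
      rw [hex, vecMulVec_mul, Matrix.vecMul_add, Matrix.vecMul_one, vecMul_vecMulVec, hbγ, zero_smul, add_zero]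
    have heWs : ∀ w, e.symm (vecMulVec w b) = vecMulVec w b := fun w => e.symm_apply_eq.2 (heW w).symm
    set Y := e * h * e⁻¹ * h⁻¹ with hY
    by_cases hYT : IsTensor Y
    · -- then `h` maps all of `V₁ ⊗ b` into one `V₁ ⊗ c'`
      have hT : IsTensor (h * e⁻¹ * h⁻¹) := by
        have := heT.inv.mul hYT
        rwa [hY, show e⁻¹ * (e * h * e⁻¹ * h⁻¹) = h * e⁻¹ * h⁻¹ by group] at this
      let V := h.toLinearMap ∘ₗ root 1 (-γ) b ∘ₗ h.symm.toLinearMap
      have hV : ∀ X, (h * e⁻¹ * h⁻¹) X = X + V X := fun X => by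
        show h (e.symm (h.symm X)) = _
        rw [hexs, Matrix.mul_add, Matrix.mul_one, map_add, h.apply_symm_apply, mul_vecMulVec]
        simp [V]
      have hVr : finrank F (LinearMap.range V) ≤ n₁ := by
        let L : (Fin n₁ → F) →ₗ[F] Matrix (Fin n₁) (Fin n₂) F :=
          h.toLinearMap ∘ₗ (vecMulVecBilin F F).flip b
        have hle : LinearMap.range V ≤ LinearMap.range L := by
          rintro _ ⟨X, rfl⟩
          exact ⟨h.symm X *ᵥ (-γ), by simp [L, V]⟩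
        exact (Submodule.finrank_mono hle).trans (by simpa using LinearMap.finrank_range_le L)
      obtain ⟨η, c', hc'⟩ := range_of_isTensor h12 h1 hT hV hVr
      obtain ⟨d, hd⟩ := exists_dot_one (neg_ne_zero.2 hγ0)
      refine ⟨h, hh, hhT, ⊤, b, c', hb, by rw [finrank_top, finrank_fin_fun]; omega,
        fun w _ => ⟨h (vecMulVec w d) *ᵥ η, ?_⟩⟩
      rw [← hc']
      show _ = h (root 1 (-γ) b (h.symm (h (vecMulVec w d))))
      rw [h.symm_apply_apply, root_apply, one_mulVec, vecMulVec_mulVec, op_smul_eq_smul, hd, one_smul]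
    · refine ⟨Y, mul_mem (mul_mem (mul_mem he hh) (inv_mem he)) (inv_mem hh), hYT, W₀ ⊔ F ∙ x₀, b, b, hb, ?_,
        fun w hw => ?_⟩
      · have hlt : W₀ < W₀ ⊔ F ∙ x₀ := lt_of_le_of_ne le_sup_left fun heq =>
          hx₀ (heq ▸ Submodule.mem_sup_right (Submodule.mem_span_singleton_self x₀))
        have := Submodule.finrank_lt_finrank_of_lt hlt
        omega
      · obtain ⟨w₀, hw₀, w₁, hw₁, rfl⟩ := Submodule.mem_sup.1 hw
        obtain ⟨k, rfl⟩ := Submodule.mem_span_singleton.1 hw₁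
        have hY0 : Y (vecMulVec w₀ b) = vecMulVec w₀ b := by
          show e (h (e.symm (h.symm _))) = _
          rw [hhs, hW0 _ hw₀, sub_zero, heWs, hU, hW0 _ hw₀, add_zero, heW]
        have hY1 : Y (vecMulVec x₀ b) = vecMulVec x₀ b + vecMulVec (z *ᵥ γ) b := by
          show e (h (e.symm (h.symm _))) = _
          rw [hhs, ← hz, map_sub, heWs, hexs z, Matrix.mul_add, Matrix.mul_one, mul_vecMulVec, mulVec_neg,
            neg_vecMulVec, ← sub_eq_add_neg, map_sub, map_sub h, hU (vecMulVec x₀ b), hU z,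
            hU (vecMulVec (z *ᵥ γ) b), ← hz, show U z = 0 from hU2 _, hW0 _ hzγ, add_zero, add_zero]
          simp only [map_sub, map_add, heW]
          abel
        refine ⟨w₀ + k • (x₀ + z *ᵥ γ), ?_⟩
        rw [add_vecMulVec, smul_vecMulVec, map_add, map_smul, hY0, hY1, add_vecMulVec w₀, smul_vecMulVec,
          add_vecMulVec]

/-- An element outside the stabiliser that fixes some `V₁ ⊗ b` pointwise. -/
theorem exists_fix (hM : ContainsSL M) (h1 : 0 < n₁) (h12 : n₁ < n₂) (h3 : 3 ≤ n₂)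
    {g₀ : Matrix (Fin n₁) (Fin n₂) F ≃ₗ[F] Matrix (Fin n₁) (Fin n₂) F} (hg₀ : g₀ ∈ M)
    (hg₀T : ¬ IsTensor g₀) :
    ∃ h ∈ M, ¬ IsTensor h ∧ ∃ (b : Fin n₂ → F)
      (U : Matrix (Fin n₁) (Fin n₂) F →ₗ[F] Matrix (Fin n₁) (Fin n₂) F),
        b ≠ 0 ∧ (∀ X, h X = X + U X) ∧ (∀ X, U (U X) = 0) ∧ ∀ w, U (vecMulVec w b) = 0 := by
  obtain ⟨g, hg, hgT, W₀, b, c, hb, hdim, hW⟩ := exists_mapsTo hM h1 h12 h3 hg₀ hg₀T (n₁ - 1) (by omega)
  have htop : W₀ = ⊤ := Submodule.eq_top_of_finrank_eq (by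
    have := Submodule.finrank_le W₀
    rw [finrank_fin_fun] at this ⊢
    omega)
  obtain ⟨h, hh, hhT, U, hU, hU2, -, hkill⟩ := exists_conj_not_isTensor hM h1 h12 h3 hg hgT c
  exact ⟨h, hh, hhT, b, U, hb, hU, hU2, fun w => hkill _ (hW w (htop ▸ Submodule.mem_top))⟩

end CfsgLib.Classical.TensorMax
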